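import Mathlib
import Groth.Prelude.Def_W4stkremschemesLRS

/-!
# Closed immersions of locally ringed spaces into schemes
-/

set_option autoImplicit false
universe u
open CategoryTheory CategoryTheory.Limits AlgebraicGeometry TopologicalSpace Opposite

namespace LRSImmLib

variable {Z X : LocallyRingedSpace.{u}} (i : Z ⟶ X)

theorem isIso_stalkPushforward (hi : LRSImm.IsClosedImmersion i) (z : Z) :
    IsIso (Z.presheaf.stalkPushforward CommRingCat i.base z) :=
  TopCat.Presheaf.stalkPushforward.stalkPushforward_iso_of_isInducing CommRingCat hi.1.isInducing _ _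

theorem stalkMap_surjective (hi : LRSImm.IsClosedImmersion i) (z : Z) :
    Function.Surjective (i.stalkMap z) := by
  haveI := isIso_stalkPushforward i hi z
  change Function.Surjective ((TopCat.Presheaf.stalkFunctor CommRingCat (i.base z)).map i.c ≫
    Z.presheaf.stalkPushforward CommRingCat i.base z)
  exact (ConcreteCategory.bijective_of_isIso (Z.presheaf.stalkPushforward CommRingCat i.base z)).surjective.comp
    ((TopCat.Presheaf.locally_surjective_iff_surjective_on_stalks _).mp hi.2.1 (i.base z))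

theorem ker_stalkMap (hi : LRSImm.IsClosedImmersion i) (z : Z) :
    RingHom.ker ((TopCat.Presheaf.stalkFunctor CommRingCat (i.base z)).map i.c).hom =
      RingHom.ker (i.stalkMap z).hom := by
  haveI := isIso_stalkPushforward i hi z
  ext a
  change _ = 0 ↔ ((TopCat.Presheaf.stalkFunctor CommRingCat (i.base z)).map i.c ≫
    Z.presheaf.stalkPushforward CommRingCat i.base z) a = 0
  rw [CommRingCat.comp_apply]
  exact (map_eq_zero_iff _ (ConcreteCategory.bijective_of_isIso
    (Z.presheaf.stalkPushforward CommRingCat i.base z)).injective).symm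

theorem ker_eq_top (hi : LRSImm.IsClosedImmersion i) {x : X.toTopCat} (hx : x ∉ Set.range i.base) :
    RingHom.ker ((TopCat.Presheaf.stalkFunctor CommRingCat x).map i.c).hom = ⊤ := by
  let W : Opens X.toTopCat := ⟨(Set.range i.base)ᶜ, hi.1.isClosed_range.isOpen_compl⟩
  have he : (Opens.map i.base).obj W = ⊥ := by
    ext z
    simp [W]
  haveI : Subsingleton ((i.base _* Z.presheaf).obj (op W)) :=
    CommRingCat.subsingleton_of_isTerminal (Z.sheaf.isTerminalOfEqEmpty he)
  have h10 : (1 : (i.base _* Z.presheaf).stalk x) = 0 := by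
    rw [← map_one ((i.base _* Z.presheaf).germ W x hx).hom,
      ← map_zero ((i.base _* Z.presheaf).germ W x hx).hom]
    exact congrArg _ (Subsingleton.elim _ _)
  rw [Ideal.eq_top_iff_one, RingHom.mem_ker, map_one]
  exact h10

theorem stalkMap_germ_congr {A B : LocallyRingedSpace.{u}} {f g : A ⟶ B} (e : f = g) (w : A)
    (V : Opens B.toTopCat) (hf : f.base w ∈ V) (hg : g.base w ∈ V) (r : B.presheaf.obj (op V)) :
    f.stalkMap w (B.presheaf.germ V (f.base w) hf r) = g.stalkMap w (B.presheaf.germ V (g.base w) hg r) := by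
  subst e
  rfl

theorem stalkMap_eq_zero_congr {A B : LocallyRingedSpace.{u}} {f g : A ⟶ B} (e : f = g) (w : A)
    {ι : Type*} (V : Opens B.toTopCat) (s : ι → B.presheaf.obj (op V)) (hf : f.base w ∈ V) (hg : g.base w ∈ V)
    (H : ∀ c : B.presheaf.stalk (g.base w), g.stalkMap w c = 0 →
      c ∈ Ideal.span (Set.range fun j => B.presheaf.germ V (g.base w) hg (s j)))
    (c : B.presheaf.stalk (f.base w)) (hc : f.stalkMap w c = 0) :
    c ∈ Ideal.span (Set.range fun j => B.presheaf.germ V (f.base w) hf (s j)) := by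
  subst e
  exact H c hc

theorem fromSpec_stalkMap_germ {X : Scheme.{u}} {V : X.Opens} (hV : IsAffineOpen V)
    (p : Spec Γ(X, V)) (hp : hV.fromSpec p ∈ V) (r : Γ(X, V)) :
    hV.fromSpec.stalkMap p (X.presheaf.germ V _ hp r) =
      (Spec Γ(X, V)).presheaf.germ ⊤ p trivial ((Scheme.ΓSpecIso Γ(X, V)).inv r) := by
  rw [Scheme.Hom.germ_stalkMap_apply, hV.fromSpec_app_self, CommRingCat.comp_apply]
  exact TopCat.Presheaf.germ_res_apply _ _ _ _ _

theorem exists_factor_quotient {A : LocallyRingedSpace.{u}} {R : CommRingCat.{u}}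
    (g : A ⟶ Spec.locallyRingedSpaceObj R) (I : Ideal R)
    (hI : ∀ r ∈ I, g.c.app (op ⊤) ((Scheme.ΓSpecIso R).inv r) = 0) :
    ∃ ψ : A ⟶ Spec.locallyRingedSpaceObj (CommRingCat.of (R ⧸ I)),
      ψ ≫ Spec.locallyRingedSpaceMap (CommRingCat.ofHom (Ideal.Quotient.mk I)) = g := by
  let γ : R ⟶ LocallyRingedSpace.Γ.obj (op A) :=
    ((ΓSpec.locallyRingedSpaceAdjunction.homEquiv A (op R)).symm g).unop
  have hγ : ∀ r, γ r = g.c.app (op ⊤) ((Scheme.ΓSpecIso R).inv r) := fun r => by
    change ((ΓSpec.locallyRingedSpaceAdjunction.homEquiv A (op R)).symm g).unop r = _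
    rw [Adjunction.homEquiv_symm_apply]
    rfl
  let γ' : CommRingCat.of (R ⧸ I) ⟶ LocallyRingedSpace.Γ.obj (op A) :=
    CommRingCat.ofHom (Ideal.Quotient.lift I γ.hom (fun a ha => (hγ a).trans (hI a ha)))
  refine ⟨ΓSpec.locallyRingedSpaceAdjunction.homEquiv A (op (CommRingCat.of (R ⧸ I))) γ'.op, ?_⟩
  have h := Adjunction.homEquiv_naturality_right ΓSpec.locallyRingedSpaceAdjunction γ'.op
    (CommRingCat.ofHom (Ideal.Quotient.mk I)).op
  refine h.symm.trans ?_
  rw [← op_comp, show CommRingCat.ofHom (Ideal.Quotient.mk I) ≫ γ' = γ from CommRingCat.hom_ext (RingHom.ext fun a => rfl)]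
  exact Equiv.apply_symm_apply _ g

theorem exists_chart {S : Scheme.{u}} (i : Z ⟶ S.toLocallyRingedSpace)
    (hi : LRSImm.IsClosedImmersion i) (z : Z) :
    ∃ (U : OpenNhds z) (R : CommRingCat.{u}),
      Nonempty (Z.restrict U.isOpenEmbedding ≅ Spec.toLocallyRingedSpace.obj (op R)) := by
  obtain ⟨U₀, hU₀, ι, s₀, hs₀, hspan₀⟩ := hi.2.2 (i.base z)
  obtain ⟨_, ⟨V : S.Opens, hV, rfl⟩, hzV, hVU⟩ :=
    S.isBasis_affineOpens.exists_subset_of_mem_open (hU₀ : i.base z ∈ U₀.1) U₀.2
  have hV : IsAffineOpen V := hV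
  let R := Γ(S, V)
  let s : ι → R := fun j => S.presheaf.map (homOfLE (show (V : Opens S) ≤ U₀ from hVU)).op (s₀ j)
  have hspan : ∀ (x : S) (hx : x ∈ V), Ideal.span (Set.range fun j => S.presheaf.germ V x hx (s j)) =
      RingHom.ker ((TopCat.Presheaf.stalkFunctor CommRingCat x).map i.c).hom := fun x hx => by
    rw [← hspan₀ x (hVU hx)]
    congr 2
    funext j
    exact TopCat.Presheaf.germ_res_apply _ _ _ _ _
  let I : Ideal R := Ideal.span (Set.range s)
  let W : Opens Z.toTopCat := (Opens.map i.base).obj V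
  let ZW := Z.restrict W.isOpenEmbedding
  let r : ZW ⟶ Z := Z.ofRestrict _
  let fr : (Spec R).toLocallyRingedSpace ⟶ S.toLocallyRingedSpace := hV.fromSpec.toLRSHom
  haveI : LocallyRingedSpace.IsOpenImmersion fr := (inferInstance : IsOpenImmersion hV.fromSpec)
  have hsub : Set.range (r ≫ i).base ⊆ Set.range fr.base := by
    rintro _ ⟨w, rfl⟩
    change i.base w.1 ∈ Set.range hV.fromSpec
    rw [hV.range_fromSpec]
    exact w.2
  let g : ZW ⟶ (Spec R).toLocallyRingedSpace := LocallyRingedSpace.IsOpenImmersion.lift fr (r ≫ i) hsub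
  have hg : g ≫ fr = r ≫ i := LocallyRingedSpace.IsOpenImmersion.lift_fac _ _ _
  have hgbase : ∀ w : ZW, hV.fromSpec (g.base w) = i.base w.1 := fun w =>
    congrArg (fun m : ZW ⟶ S.toLocallyRingedSpace => m.base w) hg
  -- the generators vanish on `ZW`
  have hγ : ∀ j, g.c.app (op ⊤) ((Scheme.ΓSpecIso R).inv (s j)) = 0 := fun j => by
    refine TopCat.Presheaf.section_ext ZW.sheaf ⊤ _ _ fun w _ => ?_
    refine Eq.trans ?_ (map_zero _).symm
    change ZW.presheaf.germ ⊤ w trivial (g.c.app (op ⊤) ((Scheme.ΓSpecIso R).inv (s j))) = 0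
    have h0 : g.stalkMap w ((Spec R).presheaf.germ ⊤ (g.base w) trivial ((Scheme.ΓSpecIso R).inv (s j))) =
        ZW.presheaf.germ ⊤ w trivial (g.c.app (op ⊤) ((Scheme.ΓSpecIso R).inv (s j))) :=
      PresheafedSpace.stalkMap_germ_apply g.toHom ⊤ w trivial _
    rw [← h0, ← fromSpec_stalkMap_germ hV (g.base w) (by rw [hgbase]; exact w.2) (s j)]
    have h1 : (g ≫ fr).stalkMap w (S.presheaf.germ V (hV.fromSpec (g.base w)) (by rw [hgbase]; exact w.2) (s j)) =
        (r ≫ i).stalkMap w (S.presheaf.germ V (i.base w.1) w.2 (s j)) :=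
      stalkMap_germ_congr hg w V _ _ _
    rw [LocallyRingedSpace.stalkMap_comp, LocallyRingedSpace.stalkMap_comp] at h1
    refine h1.trans ?_
    have h2 : i.stalkMap w.1 (S.presheaf.germ V (i.base w.1) w.2 (s j)) = 0 := by
      change _ ∈ RingHom.ker (i.stalkMap w.1).hom
      rw [← ker_stalkMap i hi, ← hspan _ w.2]
      exact Ideal.subset_span ⟨j, rfl⟩
    exact (congrArg (r.stalkMap w) h2).trans (map_zero _)
  let Q := CommRingCat.of (R ⧸ I)
  let q : R ⟶ Q := CommRingCat.ofHom (Ideal.Quotient.mk I)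
  let γ : R ⟶ LocallyRingedSpace.Γ.obj (op ZW) := (Scheme.ΓSpecIso R).inv ≫ g.c.app (op ⊤)
  obtain ⟨ψ', hψ'⟩ := exists_factor_quotient g I (fun a ha => by
    have : I ≤ RingHom.ker γ.hom := Ideal.span_le.mpr (by rintro _ ⟨j, rfl⟩; exact hγ j)
    exact this ha)
  let ψ : ZW ⟶ (Spec Q).toLocallyRingedSpace := ψ'
  let c : (Spec Q).toLocallyRingedSpace ⟶ (Spec R).toLocallyRingedSpace := (Spec.map q).toLRSHom
  have hψ : ψ ≫ c = g := hψ'
  haveI hc : IsClosedImmersion (Spec.map q) := IsClosedImmersion.spec_of_surjective q Ideal.Quotient.mk_surjective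
  have hψbase : ∀ w : ZW, Spec.map q (ψ.base w) = g.base w := fun w =>
    congrArg (fun m : ZW ⟶ (Spec R).toLocallyRingedSpace => m.base w) hψ
  -- topology
  have hgemb : Topology.IsClosedEmbedding g.base := by
    have hfe : Topology.IsEmbedding hV.fromSpec.base := hV.fromSpec.isOpenEmbedding.isEmbedding
    refine ⟨?_, ?_⟩
    · have h : Topology.IsEmbedding (hV.fromSpec.base ∘ g.base) := by
        have : (hV.fromSpec.base ∘ g.base : ZW → S) = i.base ∘ r.base := funext hgbase
        rw [this]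
        exact hi.1.isEmbedding.comp W.isOpenEmbedding.isEmbedding
      exact hfe.of_comp_iff.mp h
    · have : Set.range g.base = hV.fromSpec.base ⁻¹' Set.range i.base := by
        ext p
        constructor
        · rintro ⟨w, rfl⟩
          exact ⟨w.1, (hgbase w).symm⟩
        · rintro ⟨y, hy⟩
          have hyW : y ∈ W := by
            change i.base y ∈ V
            rw [hy]
            have := Set.mem_range_self (f := hV.fromSpec) p
            rw [hV.range_fromSpec] at this
            exact this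
          exact ⟨⟨y, hyW⟩, hfe.injective ((hgbase ⟨y, hyW⟩).trans hy)⟩
      rw [this]
      exact hi.1.isClosed_range.preimage hV.fromSpec.continuous
  have hce : Topology.IsClosedEmbedding (Spec.map q) := (Spec.map q).isClosedEmbedding
  have hψemb : Topology.IsClosedEmbedding ψ.base := by
    have h : Topology.IsClosedEmbedding ((Spec.map q).base ∘ ψ.base) := by
      have : ((Spec.map q).base ∘ ψ.base : ZW → Spec R) = g.base := funext hψbase
      rw [this]; exact hgemb
    exact ⟨hce.isEmbedding.of_comp_iff.mp h.isEmbedding, by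
      rw [← hce.injective.preimage_image (Set.range ψ.base), ← Set.range_comp]
      exact h.isClosed_range.preimage hce.continuous⟩
  have hψsurj : Function.Surjective ψ.base := fun p => by
    let x : S := hV.fromSpec (Spec.map q p)
    have hxV : x ∈ V := by
      have := Set.mem_range_self (f := hV.fromSpec) (Spec.map q p)
      rw [hV.range_fromSpec] at this
      exact this
    by_cases hx : x ∈ Set.range i.base
    · obtain ⟨y, hy⟩ := hx
      have hyW : y ∈ W := show i.base y ∈ V by rw [hy]; exact hxV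
      refine ⟨⟨y, hyW⟩, hce.injective ?_⟩
      rw [hψbase]
      exact hV.fromSpec.isOpenEmbedding.injective ((hgbase _).trans hy)
    · exfalso
      have h := hspan x hxV
      rw [ker_eq_top i hi hx] at h
      refine (IsLocalRing.maximalIdeal.isMaximal (S.presheaf.stalk x)).ne_top (top_le_iff.mp (h.ge.trans ?_))
      rw [Ideal.span_le]
      rintro _ ⟨j, rfl⟩
      rw [SetLike.mem_coe, IsLocalRing.mem_maximalIdeal, mem_nonunits_iff]
      intro hu
      have : Spec.map q p ∈ hV.fromSpec ⁻¹ᵁ S.basicOpen (s j) := (S.mem_basicOpen (s j) x hxV).mpr hu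
      rw [hV.fromSpec_preimage_basicOpen] at this
      refine this ?_
      change Ideal.Quotient.mk I (s j) ∈ p.asIdeal
      rw [Ideal.Quotient.eq_zero_iff_mem.mpr (Ideal.subset_span (Set.mem_range_self j) : s j ∈ I)]
      exact zero_mem _
  -- stalks
  have hstalk : ∀ w : ZW, Function.Bijective (ψ.stalkMap w) := fun w => by
    haveI : IsIso (r.stalkMap w) := (inferInstance : IsIso ((Z.ofRestrict W.isOpenEmbedding).stalkMap w))
    haveI : IsIso (fr.stalkMap (g.base w)) := (inferInstance : IsIso (hV.fromSpec.stalkMap (g.base w)))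
    have hgf : Function.Surjective ((g ≫ fr).stalkMap w) := by
      rw [hg, LocallyRingedSpace.stalkMap_comp]
      exact (ConcreteCategory.bijective_of_isIso (r.stalkMap w)).surjective.comp (stalkMap_surjective i hi _)
    have hgs : Function.Surjective (g.stalkMap w) := by
      rw [LocallyRingedSpace.stalkMap_comp] at hgf
      exact Function.Surjective.of_comp hgf
    have hcs : Function.Surjective ((ψ ≫ c).stalkMap w) := by rw [hψ]; exact hgs
    rw [LocallyRingedSpace.stalkMap_comp] at hcs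
    refine ⟨(injective_iff_map_eq_zero _).mpr fun a ha => ?_, Function.Surjective.of_comp hcs⟩
    obtain ⟨b, rfl⟩ := (Spec.map q).stalkMap_surjective (ψ.base w) a
    obtain ⟨t, rfl⟩ := (ConcreteCategory.bijective_of_isIso (fr.stalkMap (c.base (ψ.base w)))).surjective b
    have hk : ((ψ ≫ c) ≫ fr).stalkMap w t = 0 := by
      rw [LocallyRingedSpace.stalkMap_comp, LocallyRingedSpace.stalkMap_comp]
      exact ha
    have hxw : hV.fromSpec (c.base (ψ.base w)) ∈ V := by
      change hV.fromSpec (Spec.map q (ψ.base w)) ∈ V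
      rw [hψbase, hgbase]; exact w.2
    have ht : t ∈ Ideal.span (Set.range fun j => S.presheaf.germ V (hV.fromSpec (c.base (ψ.base w))) hxw (s j)) := by
      refine stalkMap_eq_zero_congr (show (ψ ≫ c) ≫ fr = r ≫ i by rw [hψ, hg]) w V s hxw w.2 (fun d hd => ?_) t hk
      rw [LocallyRingedSpace.stalkMap_comp] at hd
      have hd' : i.stalkMap w.1 d = 0 :=
        (map_eq_zero_iff _ (ConcreteCategory.bijective_of_isIso (r.stalkMap w)).injective).mp hd
      have hd2 : d ∈ RingHom.ker ((TopCat.Presheaf.stalkFunctor CommRingCat (i.base w.1)).map i.c).hom := by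
        rw [ker_stalkMap i hi]; exact hd'
      rw [← hspan _ w.2] at hd2
      exact hd2
    have := Ideal.mem_map_of_mem ((Spec.map q).stalkMap (ψ.base w)).hom
      (Ideal.mem_map_of_mem (fr.stalkMap (c.base (ψ.base w))).hom ht)
    rw [Ideal.map_map, Ideal.map_span, ← Set.range_comp] at this
    refine Ideal.mem_bot.mp (le_of_eq_of_le rfl (Ideal.span_le.mpr ?_) this)
    rintro _ ⟨j, rfl⟩
    rw [SetLike.mem_coe, Ideal.mem_bot]
    change (Spec.map q).stalkMap (ψ.base w) (hV.fromSpec.stalkMap (Spec.map q (ψ.base w))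
      (S.presheaf.germ V _ hxw (s j))) = 0
    rw [fromSpec_stalkMap_germ hV, Scheme.Hom.germ_stalkMap_apply]
    have h3 : (Spec.map q).app ⊤ ((Scheme.ΓSpecIso R).inv (s j)) = 0 := by
      change ((Scheme.ΓSpecIso R).inv ≫ (Spec.map q).appTop) (s j) = 0
      rw [← Scheme.ΓSpecIso_inv_naturality, CommRingCat.comp_apply,
        show q (s j) = 0 from Ideal.Quotient.eq_zero_iff_mem.mpr (Ideal.subset_span ⟨j, rfl⟩), map_zero]
    erw [h3]
    exact map_zero _
  haveI : ∀ w : ZW.toSheafedSpace.toPresheafedSpace, IsIso (ψ.toShHom.hom.stalkMap w) := fun w =>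
    (ConcreteCategory.isIso_iff_bijective _).mpr (hstalk w)
  haveI : SheafedSpace.IsOpenImmersion ψ.toShHom :=
    SheafedSpace.IsOpenImmersion.of_stalk_iso _
      ⟨hψemb.isEmbedding, (Set.range_eq_univ.mpr hψsurj : Set.range ψ.base = Set.univ) ▸ isOpen_univ⟩
  haveI : Epi ψ.toShHom.hom.base := (TopCat.epi_iff_surjective _).mpr hψsurj
  haveI : IsIso ψ.toShHom.hom := PresheafedSpace.IsOpenImmersion.to_iso _
  haveI : IsIso (SheafedSpace.forgetToPresheafedSpace.map ψ.toShHom) := ‹IsIso ψ.toShHom.hom›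
  haveI hsh : IsIso ψ.toShHom := isIso_of_reflects_iso ψ.toShHom SheafedSpace.forgetToPresheafedSpace
  haveI : IsIso (LocallyRingedSpace.forgetToSheafedSpace.map ψ) := hsh
  have hiso : IsIso ψ := isIso_of_reflects_iso ψ LocallyRingedSpace.forgetToSheafedSpace
  let e : ZW ≅ (Spec Q).toLocallyRingedSpace := @asIso _ _ _ _ ψ hiso
  exact ⟨⟨W, hzV⟩, Q, ⟨e⟩⟩

end LRSImmLib
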